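import Mathlib
import Groth.Agent.S16234

/-! Cotorsion and torsion of finite torsion modules over a discrete valuation ring. -/

universe u v

open IsLocalRing TensorProduct

namespace Groth.Agent.DvrTorsion

variable {R : Type u} [CommRing R] [IsDomain R] [IsDiscreteValuationRing R] {ϖ : R}

theorem isFiniteLength (hϖ : Irreducible ϖ) {X : Type v} [AddCommGroup X] [Module R X]
    [Module.Finite R X] (n : ℕ) (hX : ∀ x : X, ϖ ^ n • x = 0) : IsFiniteLength R X := by
  refine (Groth.Agent.S16234.result R X).1 fun p hp => ?_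
  rw [Module.support_eq_zeroLocus] at hp
  have h : ϖ ^ n ∈ p.asIdeal := hp (Module.mem_annihilator.2 hX)
  have hϖp := p.isPrime.mem_of_pow_mem n h
  have : p.asIdeal = maximalIdeal R := by
    refine le_antisymm (le_maximalIdeal p.isPrime.ne_top) ?_
    rw [hϖ.maximalIdeal_eq, Ideal.span_le, Set.singleton_subset_iff]
    exact hϖp
  rw [this]
  infer_instance

/-- The multiplication by `ϖ`. -/
abbrev mulπ (ϖ : R) (X : Type v) [AddCommGroup X] [Module R X] : X →ₗ[R] X := LinearMap.lsmul R X ϖ

theorem length_residue_tensor (X : Type v) [AddCommGroup X] [Module R X] [Module.Finite R X] :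
    Module.length R (ResidueField R ⊗[R] X) = Module.finrank (ResidueField R) (ResidueField R ⊗[R] X) := by
  rw [Module.length_eq_of_surjective (S := R) (R := ResidueField R) residue_surjective,
    Module.length_eq_finrank]

theorem finrank_eq_length_torsion (hϖ : Irreducible ϖ) (X : Type v) [AddCommGroup X] [Module R X]
    [Module.Finite R X] (n : ℕ) (hX : ∀ x : X, ϖ ^ n • x = 0) :
    (Module.finrank (ResidueField R) (ResidueField R ⊗[R] X) : ℕ∞) =
      Module.length R (LinearMap.ker (mulπ ϖ X)) := by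
  rw [← length_residue_tensor]
  have hfl := isFiniteLength hϖ n hX
  have hne : Module.length R X ≠ ⊤ := Module.length_ne_top_iff.2 hfl
  set f := mulπ ϖ X
  have h1 := Module.length_eq_add_of_exact (LinearMap.ker f).subtype f.rangeRestrict
    (LinearMap.ker f).subtype_injective f.surjective_rangeRestrict
    (by rw [LinearMap.exact_iff, LinearMap.ker_rangeRestrict, Submodule.range_subtype])
  have h2 := Module.length_eq_add_of_exact (LinearMap.range f).subtype (LinearMap.range f).mkQ
    (LinearMap.range f).subtype_injective (Submodule.mkQ_surjective _) (LinearMap.exact_subtype_mkQ _)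
  have hr : maximalIdeal R • (⊤ : Submodule R X) = LinearMap.range f := by
    rw [hϖ.maximalIdeal_eq, Submodule.ideal_span_singleton_smul]
    ext x
    constructor
    · rintro ⟨y, -, rfl⟩; exact ⟨y, rfl⟩
    · rintro ⟨y, rfl⟩; exact ⟨y, trivial, rfl⟩
  have e : (ResidueField R ⊗[R] X) ≃ₗ[R] X ⧸ LinearMap.range f :=
    (TensorProduct.quotTensorEquivQuotSMul X (maximalIdeal R)).trans (Submodule.quotEquivOfEq _ _ hr)
  rw [e.length_eq]
  have hfin : Module.length R (LinearMap.range f) ≠ ⊤ :=
    ne_top_of_le_ne_top hne (Module.length_le_of_injective _ (LinearMap.range f).subtype_injective)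
  rw [h1, add_comm] at h2
  exact (WithTop.add_left_cancel hfin h2).symm

theorem exists_equiv_torsion (hϖ : Irreducible ϖ) (n : ℕ) :
    Nonempty (LinearMap.ker (mulπ ϖ (R ⧸ Ideal.span {ϖ ^ (n + 1)})) ≃ₗ[R] ResidueField R) := by
  let S := R ⧸ Ideal.span {ϖ ^ (n + 1)}
  let φ : R →ₗ[R] LinearMap.ker (mulπ ϖ S) :=
    LinearMap.codRestrict _ ((Submodule.mkQ (Ideal.span {ϖ ^ (n + 1)})).comp (LinearMap.lsmul R R (ϖ ^ n)))
      (fun r => by
        rw [LinearMap.mem_ker]
        change Submodule.Quotient.mk (ϖ • (ϖ ^ n • r)) = 0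
        rw [Submodule.Quotient.mk_eq_zero, smul_eq_mul, smul_eq_mul, ← mul_assoc, ← pow_succ']
        exact Ideal.mem_span_singleton'.2 ⟨r, mul_comm _ _⟩)
  have hsurj : Function.Surjective φ := by
    rintro ⟨s, hs⟩
    obtain ⟨a, rfl⟩ := Submodule.mkQ_surjective _ s
    rw [LinearMap.mem_ker] at hs
    change Submodule.Quotient.mk (ϖ • a) = 0 at hs
    rw [Submodule.Quotient.mk_eq_zero, Ideal.mem_span_singleton] at hs
    obtain ⟨r, hr⟩ := hs
    refine ⟨r, Subtype.ext ?_⟩
    change Submodule.Quotient.mk (ϖ ^ n • r) = Submodule.Quotient.mk a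
    congr 1
    exact mul_left_cancel₀ hϖ.ne_zero (by rw [smul_eq_mul, ← mul_assoc, ← pow_succ', ← hr, smul_eq_mul])
  have hker : LinearMap.ker φ = maximalIdeal R := by
    refine Submodule.ext fun r => ?_
    rw [LinearMap.mem_ker, hϖ.maximalIdeal_eq, Ideal.mem_span_singleton]
    constructor
    · intro h
      have h' : Submodule.Quotient.mk (p := Ideal.span {ϖ ^ (n + 1)}) (ϖ ^ n • r) = 0 :=
        congrArg Subtype.val h
      rw [Submodule.Quotient.mk_eq_zero, Ideal.mem_span_singleton, smul_eq_mul, pow_succ] at h'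
      exact (mul_dvd_mul_iff_left (pow_ne_zero n hϖ.ne_zero)).1 h'
    · rintro ⟨c, rfl⟩
      refine Subtype.ext ?_
      change Submodule.Quotient.mk (ϖ ^ n • (ϖ * c)) = 0
      rw [Submodule.Quotient.mk_eq_zero, smul_eq_mul, ← mul_assoc, ← pow_succ]
      exact Ideal.mem_span_singleton'.2 ⟨c, mul_comm _ _⟩
  exact ⟨((Submodule.quotEquivOfEq _ _ hker).symm.trans (φ.quotKerEquivOfSurjective hsurj)).symm⟩

end Groth.Agent.DvrTorsion
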